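import Cfsg.Agent.Lib.Blocks.Corner
import Mathlib.Algebra.Algebra.Operations
import Mathlib.RingTheory.Artinian.Module
import Mathlib.RingTheory.Jacobson.Semiprimary
import Mathlib.LinearAlgebra.Dual.Lemmas
import Mathlib.Tactic.Module

/-!
# A local symmetric algebra with a centre of dimension at most four is commutative

The algebra is the corner of a primitive idempotent `e` of a finite-dimensional algebra with a
non-degenerate trace `τ`.  With `J` the radical of the corner and `C` the span of the commutators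
one has `C ≤ J ^ 2`, the socle meets `C` in zero, and the corner has dimension at most `dim C + 4`.
-/

set_option autoImplicit false
set_option linter.unusedSectionVars false
set_option linter.style.haveILetI false

namespace CfsgLib.Blocks.RankOneSmall

open CfsgLib.Corner

variable (K : Type*) [Field K] {A : Type*} [Ring A] [Algebra K A]

/-- The corner of `e`. -/
def cornerSub (e : A) : Submodule K A where
  carrier := {a | e * a = a ∧ a * e = a}
  zero_mem' := ⟨mul_zero _, zero_mul _⟩
  add_mem' := fun {a b} ha hb => ⟨by rw [mul_add, ha.1, hb.1], by rw [add_mul, ha.2, hb.2]⟩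
  smul_mem' := fun c a ha => ⟨by rw [mul_smul_comm, ha.1], by rw [smul_mul_assoc, ha.2]⟩

variable {K} in
theorem mem_cornerSub {e a : A} : a ∈ cornerSub K e ↔ e * a = a ∧ a * e = a := Iff.rfl

/-- The centre of the corner of `e`. -/
def cornerCenter (e : A) : Submodule K A where
  carrier := {a | a ∈ cornerSub K e ∧ ∀ b ∈ cornerSub K e, a * b = b * a}
  zero_mem' := ⟨zero_mem _, fun b _ => by rw [zero_mul, mul_zero]⟩
  add_mem' := fun {a a'} ha ha' =>
    ⟨add_mem ha.1 ha'.1, fun b hb => by rw [add_mul, mul_add, ha.2 b hb, ha'.2 b hb]⟩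
  smul_mem' := fun c a ha =>
    ⟨Submodule.smul_mem _ c ha.1, fun b hb => by rw [smul_mul_assoc, mul_smul_comm, ha.2 b hb]⟩

variable {K}
variable {V : Type*} [AddCommGroup V] [Module K V]

/-- The equations `t (u c) = s (c w)` force `x c` and `y c` to vanish. -/
theorem assoc_equations {a b d : K} {Lx Ly Rx Ry : V}
    (e1 : a • Lx = a • Rx) (e3 : b • Lx = (b + 1) • Rx) (e2 : (b + 1) • Lx = a • Ry)
    (e4 : d • Lx = (b + 1) • Ry) (e5 : a • Ly = b • Rx) (e6 : (b + 1) • Ly = b • Ry)
    (e7 : b • Ly = d • Rx) (_e8 : d • Ly = d • Ry) : Lx = 0 ∧ Ly = 0 := by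
  rcases eq_or_ne a 0 with rfl | ha
  · rw [zero_smul] at e2 e5
    have hRx1 : (b + 1) • (b + 1) • Rx = 0 := by rw [← e3, smul_comm, e2, smul_zero]
    have hRx : (b + 1) • Rx = 0 := by
      rcases smul_eq_zero.mp hRx1 with h | h
      · rw [h, zero_smul]
      · exact h
    rw [hRx] at e3
    have hLx : Lx = 0 := by
      calc Lx = (b + 1) • Lx - b • Lx := by module
        _ = 0 := by rw [e2, e3, sub_zero]
    have hRx0 : Rx = 0 := by
      calc Rx = (b + 1) • Rx - b • Rx := by module
        _ = 0 := by rw [hRx, ← e5, sub_zero]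
    rw [hRx0, smul_zero] at e7
    rw [hLx, smul_zero] at e4
    have hRy1 : b • b • Ry = 0 := by rw [← e6, smul_comm, e7, smul_zero]
    have hRy : b • Ry = 0 := by
      rcases smul_eq_zero.mp hRy1 with h | h
      · rw [h, zero_smul]
      · exact h
    rw [hRy] at e6
    refine ⟨hLx, ?_⟩
    calc Ly = (b + 1) • Ly - b • Ly := by module
      _ = 0 := by rw [e6, e7, sub_zero]
  · have h : Lx = Rx := smul_right_injective V ha e1
    subst h
    have hLx : Lx = 0 := by
      calc Lx = (b + 1) • Lx - b • Lx := by module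
        _ = 0 := by rw [← e3, sub_self]
    subst hLx
    refine ⟨rfl, ?_⟩
    rw [smul_zero] at e5
    exact (smul_eq_zero.mp e5).resolve_left ha

theorem exists_extend [FiniteDimensional K A] {W V : Submodule K A} (hWV : W ≤ V) {n : ℕ}
    (h : Module.finrank K V ≤ Module.finrank K W + (n + 1)) :
    ∃ x ∈ V, Submodule.span K {x} ⊔ W ≤ V ∧
      Module.finrank K V ≤ Module.finrank K ↥(Submodule.span K {x} ⊔ W) + n := by
  by_cases hVW : V ≤ W
  · exact ⟨0, zero_mem _, by simpa using hWV, (Submodule.finrank_mono (hVW.trans le_sup_right)).trans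
      (Nat.le_add_right _ _)⟩
  · obtain ⟨x, hx, hxW⟩ := SetLike.not_le_iff_exists.mp hVW
    refine ⟨x, hx, sup_le ((Submodule.span_singleton_le_iff_mem _ _).mpr hx) hWV, ?_⟩
    have hlt : W < Submodule.span K {x} ⊔ W := lt_of_le_of_ne le_sup_right fun e =>
      hxW (e ▸ Submodule.mem_sup_left (Submodule.mem_span_singleton_self x))
    have := Submodule.finrank_lt_finrank_of_lt hlt
    omega

variable [FiniteDimensional K A] [IsAlgClosed K]

variable (K) in
/-- The radical of the corner. -/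
noncomputable def cornerRad {e : A} (hi : IsPrim e) : Submodule K A where
  carrier := {a | a ∈ cornerSub K e ∧ phi K e a = 0}
  zero_mem' := ⟨zero_mem _, by
    have h := hi.phi_smul (K := K) 0 (0 : A)
    rwa [zero_smul, zero_mul] at h⟩
  add_mem' := fun {a b} ha hb => ⟨add_mem ha.1 hb.1, by rw [hi.phi_add, ha.2, hb.2, add_zero]⟩
  smul_mem' := fun c a ha => ⟨Submodule.smul_mem _ c ha.1, by rw [hi.phi_smul, ha.2, mul_zero]⟩

variable {e : A} (hi : IsPrim e)
include hi

theorem sub_phi_mem {r : A} (hr : r ∈ cornerSub K e) : r - phi K e r • e ∈ cornerRad K hi := by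
  refine ⟨sub_mem hr (Submodule.smul_mem _ _ ⟨hi.idem.eq, hi.idem.eq⟩), ?_⟩
  rw [sub_eq_add_neg, ← neg_smul, hi.phi_add, hi.phi_smul, hi.phi_self, mul_one, add_neg_cancel]

theorem isNilpotent_rad {x : A} (hx : x ∈ cornerRad K hi) : IsNilpotent x := by
  have h := hi.phi_spec (K := K) x
  rwa [hx.1.1, hx.1.2, hx.2, zero_smul, sub_zero] at h

theorem rad_mul_le : cornerRad K hi * cornerRad K hi ≤ cornerRad K hi := by
  rw [Submodule.mul_le]
  intro a ha b hb
  refine ⟨⟨by rw [← mul_assoc, ha.1.1], by rw [mul_assoc, hb.1.2]⟩, ?_⟩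
  rw [hi.phi_mul ha.1.1 ha.1.2 hb.1.1 hb.1.2, ha.2, zero_mul]

theorem pow_succ_le {n : ℕ} (hn : 1 ≤ n) : cornerRad K hi ^ (n + 1) ≤ cornerRad K hi ^ n := by
  obtain ⟨m, rfl⟩ := Nat.exists_eq_add_of_le' hn
  rw [pow_succ, pow_succ, mul_assoc]
  exact mul_le_mul' le_rfl (rad_mul_le hi)

theorem pow_le_rad {n : ℕ} (hn : 1 ≤ n) : cornerRad K hi ^ n ≤ cornerRad K hi := by
  induction n, hn using Nat.le_induction with
  | base => rw [pow_one]
  | succ n hn ih => exact (pow_succ_le hi hn).trans ih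

theorem exists_pow_eq_bot : ∃ N, cornerRad K hi ^ (N + 1) = ⊥ := by
  haveI : IsArtinianRing A := IsArtinianRing.of_finite K A
  obtain ⟨N, hN⟩ : IsNilpotent (Ring.jacobson A) := IsSemiprimaryRing.isNilpotent
  have hJ : ∀ x ∈ cornerRad K hi, x ∈ Ring.jacobson A := by
    intro x hx
    rw [← Ideal.jacobson_bot, Ideal.mem_jacobson_iff]
    intro a
    obtain ⟨m, hm⟩ := hi.isNilpotent_mul_right (K := K) hx.1.1 hx.1.2 (b := e * a * e)
      (by rw [mul_assoc, hi.idem.eq]) (isNilpotent_rad hi hx)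
    have key : ∀ r, (a * x) ^ (r + 1) = a * (x * (e * a * e)) ^ r * x := by
      intro r
      induction r with
      | zero => simp
      | succ r ih =>
        rw [pow_succ, ih, pow_succ _ r]
        calc a * (x * (e * a * e)) ^ r * x * (a * x) =
            a * (x * (e * a * e)) ^ r * ((x * e) * a * (e * x)) := by
              rw [hx.1.2, hx.1.1]; simp only [mul_assoc]
          _ = _ := by simp only [mul_assoc]
    have hn : IsNilpotent (a * x) := ⟨m + 1, by rw [key, hm, mul_zero, zero_mul]⟩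
    obtain ⟨u, hu⟩ := hn.isUnit_add_one
    refine ⟨↑u⁻¹, ?_⟩
    rw [Ideal.mem_bot, mul_assoc, sub_eq_zero]
    calc (↑u⁻¹ : A) * (a * x) + ↑u⁻¹ = ↑u⁻¹ * (a * x + 1) := by rw [mul_add, mul_one]
      _ = 1 := by rw [← hu, Units.inv_mul]
  have hpow : ∀ n x, x ∈ cornerRad K hi ^ (n + 1) → x ∈ Ring.jacobson A ^ (n + 1) := by
    intro n
    induction n with
    | zero =>
      intro x hx
      simp only [zero_add, pow_one] at hx ⊢
      rw [Submodule.pow_one]
      exact hJ x hx
    | succ n ih =>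
      intro x hx
      rw [pow_succ] at hx
      induction hx using Submodule.mul_induction_on' with
      | mem_mul_mem a ha b hb =>
        rw [Submodule.pow_succ]
        exact Ideal.mul_mem_mul (ih a ha) (hJ b hb)
      | add a _ b _ ha hb => exact add_mem ha hb
  refine ⟨N, eq_bot_iff.mpr fun x hx => ?_⟩
  have h := hpow N x hx
  rcases Nat.eq_zero_or_pos N with h0 | h0
  · subst h0
    rw [Submodule.pow_zero, Ideal.one_eq_top] at hN
    have : x ∈ (0 : Ideal A) := hN ▸ trivial
    simpa using this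
  · rw [Submodule.pow_succ, hN] at h
    simpa using h

theorem pow_eq_bot_of_le {n : ℕ}
    (h : cornerRad K hi ^ n ≤ cornerRad K hi ^ (n + 1)) : cornerRad K hi ^ n = ⊥ := by
  obtain ⟨N, hN⟩ := exists_pow_eq_bot (K := K) hi
  have : ∀ k, cornerRad K hi ^ n ≤ cornerRad K hi ^ (n + k) := fun k => by
    induction k with
    | zero => rfl
    | succ k ih =>
      refine ih.trans ?_
      rw [pow_add, show n + (k + 1) = n + 1 + k by omega, pow_add _ (n + 1)]
      exact mul_le_mul' h le_rfl
  refine eq_bot_iff.mpr ((this (N + 1)).trans ?_)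
  rw [pow_add, hN, Submodule.mul_bot]

/-- A corner whose radical has one generator is commutative. -/
theorem comm_of_generator {x : A} (hx : x ∈ cornerRad K hi)
    (h : cornerRad K hi ≤ Submodule.span K {x} ⊔ cornerRad K hi * cornerRad K hi) :
    ∀ a ∈ cornerRad K hi, ∀ b ∈ cornerRad K hi, a * b = b * a := by
  set W := Submodule.span K (Set.range fun i : ℕ => x ^ i) with hW
  have step : ∀ n, cornerRad K hi ^ (n + 1) ≤
      Submodule.span K {x ^ (n + 1)} ⊔ cornerRad K hi ^ (n + 2) := by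
    intro n
    induction n with
    | zero => simpa [pow_two] using h
    | succ n ih =>
      have hxn : x ^ (n + 1) ∈ cornerRad K hi ^ (n + 1) := Submodule.pow_mem_pow _ hx _
      rw [pow_succ (cornerRad K hi) (n + 1), Submodule.mul_le]
      intro a ha b hb
      obtain ⟨a1, ha1, a2, ha2, rfl⟩ := Submodule.mem_sup.mp (ih ha)
      obtain ⟨b1, hb1, b2, hb2, rfl⟩ := Submodule.mem_sup.mp (h hb)
      obtain ⟨s, rfl⟩ := Submodule.mem_span_singleton.mp ha1
      obtain ⟨t, rfl⟩ := Submodule.mem_span_singleton.mp hb1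
      rw [show (s • x ^ (n + 1) + a2) * (t • x + b2) = (s • x ^ (n + 1)) * (t • x) +
        ((s • x ^ (n + 1)) * b2 + a2 * (t • x + b2)) by rw [add_mul, mul_add, add_assoc]]
      refine Submodule.mem_sup.mpr ⟨_, ?_, _, ?_, rfl⟩
      · rw [smul_mul_smul_comm, ← pow_succ]
        exact Submodule.smul_mem _ _ (Submodule.mem_span_singleton_self _)
      · refine add_mem ?_ ?_
        · rw [pow_add, pow_two]
          exact Submodule.mul_mem_mul (Submodule.smul_mem _ _ hxn) hb2
        · rw [show n + 1 + 2 = n + 2 + 1 from rfl, pow_succ]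
          exact Submodule.mul_mem_mul ha2 hb
  have all : ∀ n, cornerRad K hi ≤ W ⊔ cornerRad K hi ^ (n + 1) := by
    intro n
    induction n with
    | zero => simp
    | succ n ih =>
      refine ih.trans (sup_le le_sup_left ((step n).trans (sup_le_sup ?_ le_rfl)))
      rw [Submodule.span_singleton_le_iff_mem]
      exact Submodule.subset_span ⟨n + 1, rfl⟩
  obtain ⟨N, hN⟩ := exists_pow_eq_bot (K := K) hi
  have hJW : cornerRad K hi ≤ W := by simpa [hN] using all N
  have hmul : ∀ a ∈ W, ∀ j : ℕ, Commute a (x ^ j) := fun a ha j => by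
    induction ha using Submodule.span_induction with
    | mem a h => obtain ⟨i, rfl⟩ := h; exact (Commute.refl x).pow_pow i j
    | zero => exact Commute.zero_left _
    | add a b _ _ h h' => exact h.add_left h'
    | smul c a _ h => exact h.smul_left c
  have hmul' : ∀ a ∈ W, ∀ b ∈ W, Commute a b := fun a ha b hb => by
    induction hb using Submodule.span_induction with
    | mem b h => obtain ⟨i, rfl⟩ := h; exact hmul a ha i
    | zero => exact Commute.zero_right _
    | add b b' _ _ h h' => exact Commute.add_right h h'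
    | smul c b _ h => exact Commute.smul_right h c
  exact fun a ha b hb => hmul' a (hJW ha) b (hJW hb)

/-- **A local symmetric algebra with centre of dimension at most four is commutative.** -/
theorem corner_comm (τ : A →ₗ[K] K) (hτ : ∀ a b, τ (a * b) = τ (b * a))
    (hnd : ∀ x, (∀ y, τ (x * y) = 0) → x = 0)
    (hZ : Module.finrank K (cornerCenter K e) ≤ 4) :
    ∀ a ∈ cornerSub K e, ∀ b ∈ cornerSub K e, a * b = b * a := by
  classical
  set R := cornerSub K e with hR
  set J := cornerRad K hi with hJ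
  set C := Submodule.span K {d | ∃ u ∈ J, ∃ v ∈ J, u * v - v * u = d} with hC
  have heR : e ∈ R := ⟨hi.idem.eq, hi.idem.eq⟩
  have hJR : J ≤ R := fun x hx => hx.1
  have hJ1 := fun {n : ℕ} (hn : 1 ≤ n) => pow_le_rad (K := K) hi hn
  -- it suffices that `C = ⊥`
  have hcomm : ∀ a ∈ R, ∀ b ∈ R, a * b - b * a ∈ C := by
    intro a ha b hb
    refine Submodule.subset_span ⟨_, sub_phi_mem hi ha, _, sub_phi_mem hi hb, ?_⟩
    simp only [sub_mul, mul_sub, smul_mul_assoc, mul_smul_comm, ha.1, ha.2, hb.1, hb.2,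
      hi.idem.eq]
    module
  by_contra hne
  have hC0 : C ≠ ⊥ := fun h => hne fun a ha b hb => by
    have := hcomm a ha b hb
    rwa [h, Submodule.mem_bot, sub_eq_zero] at this
  have hCJ2 : C ≤ J * J := by
    rw [hC, Submodule.span_le]
    rintro _ ⟨u, hu, v, hv, rfl⟩
    exact sub_mem (Submodule.mul_mem_mul hu hv) (Submodule.mul_mem_mul hv hu)
  -- the trace on the corner
  have hτR : ∀ z ∈ R, ∀ y, τ (z * y) = τ (z * (e * y * e)) := fun z hz y => by
    calc τ (z * y) = τ (e * (z * e * y)) := by rw [← mul_assoc, ← mul_assoc, hz.1, hz.2]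
      _ = τ (z * e * y * e) := hτ _ _
      _ = τ (z * (e * y * e)) := by simp only [mul_assoc]
  have hmid : ∀ y, e * y * e ∈ R := fun y =>
    ⟨by simp only [← mul_assoc, hi.idem.eq], by simp only [mul_assoc, hi.idem.eq]⟩
  -- the socle
  let S : Submodule K A :=
    { carrier := {a | a ∈ R ∧ ∀ j ∈ J, τ (j * a) = 0}
      zero_mem' := ⟨zero_mem _, fun j _ => by rw [mul_zero, map_zero]⟩
      add_mem' := fun {a b} ha hb =>
        ⟨add_mem ha.1 hb.1, fun j hj => by rw [mul_add, map_add, ha.2 j hj, hb.2 j hj, add_zero]⟩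
      smul_mem' := fun c a ha =>
        ⟨Submodule.smul_mem _ c ha.1, fun j hj => by rw [mul_smul_comm, map_smul, ha.2 j hj, smul_zero]⟩ }
  have hinj : ∀ a ∈ S, τ a = 0 → a = 0 := by
    rintro a ⟨haR, ha⟩ h0
    refine hnd a fun y => ?_
    rw [hτR a haR, hτ]
    set r := e * y * e
    rw [show r * a = phi K e r • a + (r - phi K e r • e) * a by
      rw [sub_mul, smul_mul_assoc, haR.1]; abel, map_add, map_smul, h0,
      ha _ (sub_phi_mem hi (hmid y)), smul_zero, add_zero]
  have hS1 : Module.finrank K S ≤ 1 := by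
    refine (LinearMap.finrank_le_finrank_of_injective (f := τ.comp S.subtype) ?_).trans
      (Module.finrank_self K).le
    exact (injective_iff_map_eq_zero _).mpr fun a ha => Subtype.ext (hinj a.1 a.2 ha)
  have hτC : ∀ c ∈ C, τ c = 0 := fun c hc => by
    have : C ≤ LinearMap.ker τ := by
      rw [hC, Submodule.span_le]
      rintro _ ⟨u, -, v, -, rfl⟩
      simp [hτ u v]
    exact this hc
  have hCS : C ⊓ S = ⊥ := eq_bot_iff.mpr fun a ha => hinj a ha.2 (hτC a ha.1)
  have hsoc : ∀ d n, 1 ≤ n → J ^ (n + d) = ⊥ → J ^ n ≠ ⊥ → S ≤ J ^ n ∧ S ≠ ⊥ := by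
    intro d
    induction d with
    | zero => exact fun n _ h h' => absurd h h'
    | succ d ih =>
      intro n hn h h'
      by_cases h1 : J ^ (n + 1) = ⊥
      · obtain ⟨s, hs, hs0⟩ := Submodule.exists_mem_ne_zero_of_ne_bot h'
        have hsS : s ∈ S := ⟨hJR (hJ1 hn hs), fun j hj => by
          have hm : j * s ∈ J ^ (n + 1) := by
            rw [pow_succ']; exact Submodule.mul_mem_mul hj hs
          rw [h1, Submodule.mem_bot] at hm
          rw [hm, map_zero]⟩
        have heq : Submodule.span K {s} = S := Submodule.eq_of_le_of_finrank_le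
          ((Submodule.span_singleton_le_iff_mem _ _).mpr hsS)
          (by rw [finrank_span_singleton hs0]; exact hS1)
        exact ⟨heq ▸ (Submodule.span_singleton_le_iff_mem _ _).mpr hs,
          fun hb => hs0 ((Submodule.mem_bot K).mp (hb ▸ hsS))⟩
      · obtain ⟨h2, h3⟩ := ih (n + 1) (Nat.le_add_left 1 n)
          (by rwa [show n + 1 + d = n + (d + 1) by omega]) h1
        exact ⟨h2.trans (pow_succ_le hi hn), h3⟩
  obtain ⟨N, hN⟩ := exists_pow_eq_bot (K := K) hi
  have hsoc' : ∀ n, 1 ≤ n → J ^ n ≠ ⊥ → S ≤ J ^ n ∧ S ≠ ⊥ := fun n hn => hsoc (N + 1) n hn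
    (by rw [pow_add, hN, Submodule.mul_bot])
  obtain ⟨hS2, hS0⟩ := hsoc' 2 (by norm_num) (fun h => hC0 (eq_bot_iff.mpr (by
    rw [← h, pow_two]; exact hCJ2)))
  rw [pow_two] at hS2
  -- dimensions
  have hdim : Module.finrank K R ≤ Module.finrank K C + 4 := by
    let Φ : R →ₗ[K] Module.Dual K C :=
      { toFun := fun r => τ.comp ((LinearMap.mulLeft K (r : A)).comp C.subtype)
        map_add' := fun a b => by ext y; simp [add_mul]
        map_smul' := fun c a => by ext y; simp }
    have hker : Module.finrank K (LinearMap.ker Φ) ≤ 4 := by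
      refine le_trans ?_ hZ
      let ι : LinearMap.ker Φ →ₗ[K] cornerCenter K e :=
        LinearMap.codRestrict _ (R.subtype.comp (LinearMap.ker Φ).subtype) fun r => by
          obtain ⟨⟨r, hr⟩, hr0⟩ := r
          refine ⟨hr, fun b hb => ?_⟩
          show r * b = b * r
          refine sub_eq_zero.mp (hnd _ fun y => ?_)
          rw [hτR _ (sub_mem ⟨by rw [← mul_assoc, hr.1], by rw [mul_assoc, hb.2]⟩
            ⟨by rw [← mul_assoc, hb.1], by rw [mul_assoc, hr.2]⟩)]
          have ha := hmid y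
          generalize e * y * e = a at ha ⊢
          have h := LinearMap.congr_fun hr0 ⟨b * a - a * b, hcomm b hb a ha⟩
          change τ (r * (b * a - a * b)) = 0 at h
          rw [mul_sub, map_sub, sub_eq_zero] at h
          show τ ((r * b - b * r) * a) = 0
          rw [sub_mul, map_sub, sub_eq_zero, mul_assoc, h, mul_assoc b, hτ b, mul_assoc]
      refine LinearMap.finrank_le_finrank_of_injective (f := ι) fun a b h => ?_
      exact Subtype.ext (Subtype.ext (congrArg (fun z : cornerCenter K e => (z : A)) h))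
    have h1 := Φ.finrank_range_add_finrank_ker
    have h2 := (Submodule.finrank_le (LinearMap.range Φ)).trans Subspace.dual_finrank_eq.le
    omega
  have hJlt : Module.finrank K J + 1 ≤ Module.finrank K R :=
    Submodule.finrank_lt_finrank_of_lt (lt_of_le_of_ne hJR fun h => by
      have h' : e ∈ J := h ▸ heR
      exact one_ne_zero ((hi.phi_self (K := K)).symm.trans h'.2))
  have hCS2 : Module.finrank K C + Module.finrank K S ≤ Module.finrank K ↥(J * J) := by
    rw [← Submodule.finrank_sup_add_finrank_inf_eq, hCS, finrank_bot, add_zero]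
    exact Submodule.finrank_mono (sup_le hCJ2 hS2)
  have hSpos : 1 ≤ Module.finrank K S := Submodule.one_le_finrank_iff.mpr hS0
  -- two generators
  obtain ⟨x, hx, hxJ, hx1⟩ := exists_extend (n := 1) (V := J) (W := J * J) (rad_mul_le hi) (by omega)
  obtain ⟨y, hy, hyJ, hy1⟩ := exists_extend (n := 0) hxJ hx1
  have hgen : J = Submodule.span K {y} ⊔ (Submodule.span K {x} ⊔ J * J) :=
    (Submodule.eq_of_le_of_finrank_le hyJ (by simpa using hy1)).symm
  have hgen' : Module.finrank K ↥(J * J) + 2 ≤ Module.finrank K J := by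
    by_contra hlt
    obtain ⟨z, hz, hzJ, hz1⟩ := exists_extend (n := 0) (V := J) (W := J * J) (rad_mul_le hi) (by omega)
    have hgen1 : J ≤ Submodule.span K {z} ⊔ J * J :=
      (Submodule.eq_of_le_of_finrank_le hzJ (by simpa using hz1)).ge
    refine hC0 (eq_bot_iff.mpr ?_)
    rw [hC, Submodule.span_le]
    rintro _ ⟨u, hu, v, hv, rfl⟩
    simp [comm_of_generator hi hz hgen1 u hu v hv]
  have heqJ2 : C ⊔ S = J * J := Submodule.eq_of_le_of_finrank_le (sup_le hCJ2 hS2) (by
    have := Submodule.finrank_sup_add_finrank_inf_eq C S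
    rw [hCS, finrank_bot, add_zero] at this
    omega)
  have h33 : J ^ 3 = J * (J * J) := by rw [pow_succ', pow_two]
  -- `J ^ 3 ≠ ⊥`
  have hJ3 : J ^ 3 ≠ ⊥ := by
    intro h3
    refine hC0 (eq_bot_iff.mpr (hCS ▸ le_inf le_rfl fun c hc => ?_))
    have hc2 := hCJ2 hc
    refine ⟨hJR (rad_mul_le hi hc2), fun j hj => ?_⟩
    have := Submodule.mul_mem_mul hj hc2
    rw [← h33, h3, Submodule.mem_bot] at this
    rw [this, map_zero]
  obtain ⟨hS3, -⟩ := hsoc' 3 (by norm_num) hJ3
  have h34 : J * J ^ 3 = J ^ 4 := (pow_succ' J 3).symm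
  have h34' : J ^ 3 * J = J ^ 4 := (pow_succ J 3).symm
  have h224 : J * J * (J * J) = J ^ 4 := by rw [← h34, h33, mul_assoc]
  have h33' : J * J * J = J ^ 3 := by rw [pow_succ, pow_two]
  set c := x * y - y * x with hcdef
  have hdec : ∀ u ∈ J, ∃ (a b : K) (j : A), j ∈ J * J ∧ u = a • x + b • y + j := by
    intro u hu
    rw [hgen] at hu
    obtain ⟨u1, hu1, u', hu', rfl⟩ := Submodule.mem_sup.mp hu
    obtain ⟨u2, hu2, j, hj, rfl⟩ := Submodule.mem_sup.mp hu'
    obtain ⟨b, rfl⟩ := Submodule.mem_span_singleton.mp hu1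
    obtain ⟨a, rfl⟩ := Submodule.mem_span_singleton.mp hu2
    exact ⟨a, b, j, hj, by abel⟩
  have hC3 : C ≤ Submodule.span K {c} ⊔ J ^ 3 := by
    rw [hC, Submodule.span_le]
    rintro _ ⟨u, hu, v, hv, rfl⟩
    obtain ⟨a, b, j, hj, rfl⟩ := hdec u hu
    obtain ⟨a', b', j', hj', rfl⟩ := hdec v hv
    refine Submodule.mem_sup.mpr ⟨(a * b' - b * a') • c,
      Submodule.smul_mem _ _ (Submodule.mem_span_singleton_self c),
      (a • x + b • y) * j' + j * (a' • x + b' • y + j') - (a' • x + b' • y) * j -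
        j' * (a • x + b • y + j), ?_, ?_⟩
    · have h1 : a • x + b • y ∈ J := add_mem (Submodule.smul_mem _ _ hx) (Submodule.smul_mem _ _ hy)
      have h2 : a' • x + b' • y ∈ J :=
        add_mem (Submodule.smul_mem _ _ hx) (Submodule.smul_mem _ _ hy)
      refine sub_mem (sub_mem (add_mem ?_ ?_) ?_) ?_
      · exact h33 ▸ Submodule.mul_mem_mul h1 hj'
      · exact h33' ▸ Submodule.mul_mem_mul hj (add_mem h2 (rad_mul_le hi hj'))
      · exact h33 ▸ Submodule.mul_mem_mul h2 hj
      · exact h33' ▸ Submodule.mul_mem_mul hj' (add_mem h1 (rad_mul_le hi hj))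
    · simp only [hcdef, add_mul, mul_add, smul_mul_assoc, mul_smul_comm]
      module
  have hJ2 : J * J ≤ Submodule.span K {c} ⊔ J ^ 3 :=
    heqJ2 ▸ sup_le hC3 (hS3.trans le_sup_right)
  have hcoef : ∀ u ∈ J, ∀ v ∈ J, ∃ s : K, u * v - s • c ∈ J ^ 3 := by
    intro u hu v hv
    obtain ⟨m, hm, w, hw, he⟩ := Submodule.mem_sup.mp (hJ2 (Submodule.mul_mem_mul hu hv))
    obtain ⟨s, rfl⟩ := Submodule.mem_span_singleton.mp hm
    exact ⟨s, by rwa [← he, add_sub_cancel_left]⟩
  obtain ⟨a, ha⟩ := hcoef x hx x hx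
  obtain ⟨b, hb⟩ := hcoef y hy x hx
  obtain ⟨d, hd⟩ := hcoef y hy y hy
  have hb' : x * y - (b + 1) • c ∈ J ^ 3 := by
    convert hb using 1
    rw [add_smul, one_smul, hcdef]
    abel
  set π := (J ^ 4).mkQ with hπ
  have key : ∀ u ∈ J, ∀ v w : A, w ∈ J → ∀ s t : K, u * v - s • c ∈ J ^ 3 →
      v * w - t • c ∈ J ^ 3 → t • π (u * c) = s • π (c * w) := by
    intro u hu v w hw s t hs ht
    rw [← map_smul, ← map_smul, hπ, Submodule.mkQ_apply, Submodule.mkQ_apply, Submodule.Quotient.eq]
    have h1 : u * (v * w - t • c) ∈ J ^ 4 := h34 ▸ Submodule.mul_mem_mul hu ht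
    have h2 : (u * v - s • c) * w ∈ J ^ 4 := h34' ▸ Submodule.mul_mem_mul hs hw
    convert sub_mem h2 h1 using 1
    simp only [sub_mul, mul_sub, smul_mul_assoc, mul_smul_comm, mul_assoc]
    abel
  obtain ⟨hLx, hLy⟩ := assoc_equations
    (key x hx x x hx a a ha ha) (key x hx y x hx (b + 1) b hb' hb)
    (key x hx x y hy a (b + 1) ha hb') (key x hx y y hy (b + 1) d hb' hd)
    (key y hy x x hx b a hb ha) (key y hy x y hy b (b + 1) hb hb')
    (key y hy y x hx d b hd hb) (key y hy y y hy d d hd hd)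
  rw [hπ, Submodule.mkQ_apply, Submodule.Quotient.mk_eq_zero] at hLx hLy
  refine hJ3 (pow_eq_bot_of_le hi ?_)
  show J ^ 3 ≤ J ^ 4
  rw [h33, Submodule.mul_le]
  intro m hm n hn
  obtain ⟨s, t, j, hj, rfl⟩ := hdec m hm
  obtain ⟨n1, hn1, w, hw, hnw⟩ := Submodule.mem_sup.mp (hJ2 hn)
  obtain ⟨r, rfl⟩ := Submodule.mem_span_singleton.mp hn1
  have h1 : (s • x + t • y) * n ∈ J ^ 4 := by
    rw [← hnw, mul_add]
    refine add_mem ?_ (h34 ▸ Submodule.mul_mem_mul
      (add_mem (Submodule.smul_mem _ _ hx) (Submodule.smul_mem _ _ hy)) hw)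
    rw [add_mul, smul_mul_assoc, smul_mul_assoc, mul_smul_comm, mul_smul_comm]
    exact add_mem (Submodule.smul_mem _ _ (Submodule.smul_mem _ _ hLx))
      (Submodule.smul_mem _ _ (Submodule.smul_mem _ _ hLy))
  rw [add_mul]
  exact add_mem h1 (h224 ▸ Submodule.mul_mem_mul hj hn)

end CfsgLib.Blocks.RankOneSmall
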