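import Cfsg.Agent.Lib.Blocks.RankOneSmall.Algebra
import Cfsg.Agent.Lib.Blocks.EqualDegree.Symmetric
import Cfsg.Agent.Lib.Blocks.BlockTwo

/-!
# A block of rank one with at most four characters has equal degrees
-/

set_option autoImplicit false
set_option linter.unusedSectionVars false
set_option linter.style.haveILetI false

namespace CfsgLib.Blocks.RankOneSmall

open Cfsg CfsgLib.GrpRing CfsgLib.Blocks.Decomp
open CyclicDefect (eB MatUnits)
open EqualDegree (ctrB)
open scoped ComplexConjugate CfsgLib.Char

variable {p : ℕ} {M : Ideal AlgInt} [M.IsPrime] {G : Type*} [Group G] [Fintype G]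
  {B : Set (IrrCharacter G)}

/-- The dimension over the residue field is at most that over the complex numbers. -/
theorem finrank_mulLeft_le {T : Set (IrrCharacter G)} (hT : IsBlockUnion M T) :
    Module.finrank (ResField M) (LinearMap.mulLeft (ResField M) (eB M T)).range ≤
      Module.finrank ℂ (LinearMap.mulLeft ℂ (BlockTwo.elt (blockCoeff T))).range := by
  classical
  let b := Module.finBasis (ResField M) (LinearMap.mulLeft (ResField M) (eB M T)).range
  choose x hx using fun i => (b i).2
  choose sect hsect using fun z : ResField M => Ideal.Quotient.mk_surjective (I := locIdeal M) z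
  have hl := fun g => memLocalRing_blockCoeff hT g
  set A : Fin (Module.finrank (ResField M) (LinearMap.mulLeft (ResField M) (eB M T)).range) →
    G → ℂ := fun i g => (sect ((x i).coeff g) : ℂ) with hA
  set w := fun i => conv (blockCoeff T) (A i) with hw
  have hwl : ∀ i g, MemLocalRing M (w i g) := fun i g =>
    memLocalRing_sum _ _ fun y _ => memLocalRing_mul (hl y) (sect _).2
  have hwr : ∀ i g, res M (w i g) = ((b i : _) : KG M G).coeff g := fun i g => by
    rw [EqualDegree.res_conv hl (fun y => (sect _).2) (fun y => (CyclicDefect.coeff_eB y).symm)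
      (fun y => (res_coe _).trans (hsect _)) g, ← hx i]
    rfl
  have hli : LinearIndependent ℂ w := by
    refine EqualDegree.indep_lift_loc w hwl ?_
    have : LinearIndependent (ResField M) fun i => ((b i : _) : KG M G) :=
      b.linearIndependent.map' (Submodule.subtype _) (Submodule.ker_subtype _)
    rw [Fintype.linearIndependent_iff] at this ⊢
    refine fun c hc => this c (MonoidAlgebra.ext (Finsupp.ext fun g => ?_))
    have h := congrFun hc g
    simp only [Finset.sum_apply, Pi.smul_apply, smul_eq_mul, Pi.zero_apply, hwr] at h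
    simpa [MonoidAlgebra.coeff_sum] using h
  have hC : LinearIndependent ℂ fun i => (⟨BlockTwo.elt (blockCoeff T) * BlockTwo.elt (A i),
      BlockTwo.elt (A i), rfl⟩ : (LinearMap.mulLeft ℂ (BlockTwo.elt (blockCoeff T))).range) := by
    rw [Fintype.linearIndependent_iff] at hli ⊢
    refine fun c hc => hli c (funext fun g => ?_)
    have h := congrArg (fun z => (Subtype.val z).coeff g) hc
    simp only [AddSubmonoidClass.coe_finsetSum, SetLike.val_smul, MonoidAlgebra.coeff_sum,
      Finsupp.finsetSum_apply, MonoidAlgebra.coeff_smul, Finsupp.smul_apply, smul_eq_mul,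
      BlockTwo.coeff_mul, BlockTwo.coeff_elt, ZeroMemClass.coe_zero] at h
    simpa [Finset.sum_apply, hw, conv] using h
  simpa using hC.fintype_card_le_finrank

theorem elt_idem (T : Set (IrrCharacter G)) :
    BlockTwo.elt (blockCoeff T) * BlockTwo.elt (blockCoeff T) = BlockTwo.elt (blockCoeff T) := by
  refine MonoidAlgebra.ext (Finsupp.ext fun g => ?_)
  rw [BlockTwo.coeff_mul]
  simp only [BlockTwo.coeff_elt]
  exact congrFun (conv_blockCoeff_self T) g

open Classical in
/-- The sum of the squares of the degrees is at most the dimension of the block algebra. -/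
theorem sum_sq_le_finrank {S : Set (IrrCharacter G)} (hS : IsBlockUnion M S) :
    ∑ χ : IrrCharacter G with χ ∈ S, charDegree (χ : G → ℂ) ^ 2 ≤
      Module.finrank (ResField M) (LinearMap.mulLeft (ResField M) (eB M S)).range := by
  have hSc : IsBlockUnion M Sᶜ := fun χ hχ ψ h hψ => hχ (hS ψ hψ χ (SameBlock.symm h))
  have hdelta : blockCoeff S + blockCoeff Sᶜ = (deltaOne : G → ℂ) := by
    rw [← ofOmega_indVec, ← ofOmega_indVec, ← ofOmega_add, ← ofOmega_one]
    congr 1
    funext χ
    by_cases h : χ ∈ S
    · simp [indVec_of_mem h, indVec_of_notMem (show χ ∉ Sᶜ from fun h' => h' h)]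
    · simp [indVec_of_notMem h, indVec_of_mem (show χ ∈ Sᶜ from h)]
  have hsum : eB M S + eB M Sᶜ = 1 := by
    refine MonoidAlgebra.ext (Finsupp.ext fun g => ?_)
    rw [MonoidAlgebra.coeff_add, Finsupp.add_apply, CyclicDefect.coeff_eB, CyclicDefect.coeff_eB,
      ← res_add (memLocalRing_blockCoeff hS g) (memLocalRing_blockCoeff hSc g), ← Pi.add_apply,
      hdelta, deltaOne_apply, MonoidAlgebra.one_def, MonoidAlgebra.coeff_single, Finsupp.single_apply]
    split_ifs with ha hb hb
    · exact res_one
    · exact absurd ha.symm hb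
    · exact absurd hb.symm ha
    · exact res_zero
  set rC := fun T : Set (IrrCharacter G) =>
    Module.finrank ℂ (LinearMap.mulLeft ℂ (BlockTwo.elt (blockCoeff T))).range with hrC
  set rK := fun T : Set (IrrCharacter G) =>
    Module.finrank (ResField M) (LinearMap.mulLeft (ResField M) (eB M T)).range with hrK
  have hcr : ∀ T : Set (IrrCharacter G), (rC T : ℂ) = Nat.card G * blockCoeff T 1 := fun T => by
    rw [hrC, BlockTwo.finrank_range_mulLeft (elt_idem T), BlockTwo.coeff_elt]
  have htot : rC S + rC Sᶜ = Nat.card G := by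
    refine Nat.cast_injective (R := ℂ) ?_
    rw [Nat.cast_add, hcr, hcr, ← mul_add, ← Pi.add_apply, hdelta, deltaOne_apply]
    simp
  have hsq : rC S = ∑ χ : IrrCharacter G with χ ∈ S, charDegree (χ : G → ℂ) ^ 2 := by
    refine Nat.cast_injective (R := ℂ) ?_
    rw [hcr, blockCoeff, sum_mem_eq_filter, ← mul_assoc,
      mul_inv_cancel₀ (Nat.cast_ne_zero.mpr Nat.card_pos.ne'), one_mul, Nat.cast_sum]
    refine Finset.sum_congr rfl fun χ _ => ?_
    rw [(irr_degree_eq χ).1, Complex.conj_natCast]
    push_cast
    ring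
  have hK : Nat.card G ≤ rK S + rK Sᶜ := by
    have hle : (⊤ : Submodule (ResField M) (KG M G)) ≤
        (LinearMap.mulLeft (ResField M) (eB M S)).range ⊔
          (LinearMap.mulLeft (ResField M) (eB M Sᶜ)).range := fun a _ => by
      rw [← one_mul a, ← hsum, add_mul]
      exact Submodule.add_mem_sup ⟨a, rfl⟩ ⟨a, rfl⟩
    have h1 := Submodule.finrank_mono hle
    rw [finrank_top, Module.finrank_eq_card_basis (MonoidAlgebra.basis G (ResField M)),
      ← Nat.card_eq_fintype_card] at h1
    exact h1.trans (Submodule.finrank_add_le_finrank_add_finrank _ _)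
  have h2 : rK Sᶜ ≤ rC Sᶜ := finrank_mulLeft_le hSc
  show _ ≤ rK S
  omega

variable (U : MatUnits (ResField M) (eB M B))

/-- The centre of the corner is at most as large as that of the block. -/
theorem finrank_cornerCenter_le (hB : IsPBlock M B) :
    Module.finrank (ResField M) (cornerCenter (ResField M) U.eps) ≤ Nat.card B := by
  classical
  set Ψ : ctrB M B →ₗ[ResField M] KG M G :=
    (LinearMap.mulRight (ResField M) U.eps).comp (ctrB M B).subtype
  refine le_trans ?_ (le_of_le_of_eq (LinearMap.finrank_range_le Ψ)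
    (EqualDegree.finrank_ctrB (IsPBlock.isBlockUnion hB)))
  refine Submodule.finrank_mono fun c hc => ?_
  obtain ⟨⟨hc1, hc2⟩, hcb⟩ := hc
  set w : KG M G := ∑ l, U.E l 0 * c * U.E 0 l with hw
  have hwe : w * eB M B = w := by
    rw [hw, Finset.sum_mul]
    exact Finset.sum_congr rfl fun l _ => by rw [mul_assoc, U.toCornerSys.mul_e]
  have hew : eB M B * w = w := (CyclicDefect.eB_comm B w).trans hwe
  have hwb : ∀ b : KG M G, w * b = b * w := fun b => by
    have hb : ∀ s t, c * U.coord b s t = U.coord b s t * c := fun s t =>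
      hcb _ (U.toCornerSys.eps_coord b s t)
    calc w * b = w * eB M B * eB M B * b := by rw [hwe, hwe]
      _ = w * (eB M B * b * eB M B) := by
        rw [mul_assoc, mul_assoc, mul_assoc (eB M B) b, ← CyclicDefect.eB_comm B b]
      _ = ∑ s, ∑ t, U.E s 0 * (c * U.coord b s t) * U.E 0 t := by
        rw [U.toCornerSys.reconstruct, Finset.mul_sum]
        refine Finset.sum_congr rfl fun s _ => ?_
        rw [Finset.mul_sum]
        refine Finset.sum_congr rfl fun t _ => ?_
        rw [hw, Finset.sum_mul, Finset.sum_eq_single s]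
        · simp only [← mul_assoc]
          rw [mul_assoc (U.E s 0 * c) (U.E 0 s), U.mul, if_pos rfl,
            mul_assoc (U.E s 0) c, hc2]
        · intro l _ hl
          simp only [← mul_assoc]
          rw [mul_assoc (U.E l 0 * c) (U.E 0 l), U.mul, if_neg hl]
          simp
        · simp
      _ = ∑ s, ∑ t, U.E s 0 * (U.coord b s t * c) * U.E 0 t := by simp only [hb]
      _ = (eB M B * b * eB M B) * w := by
        rw [U.toCornerSys.reconstruct, Finset.sum_mul]
        refine Finset.sum_congr rfl fun s _ => ?_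
        rw [Finset.sum_mul]
        refine Finset.sum_congr rfl fun t _ => ?_
        rw [hw, Finset.mul_sum, Finset.sum_eq_single t]
        · simp only [← mul_assoc]
          rw [mul_assoc (U.E s 0 * U.coord b s t) (U.E 0 t), U.mul, if_pos rfl,
            mul_assoc (U.E s 0) (U.coord b s t) (U.E 0 0), (U.toCornerSys.eps_coord b s t).2]
        · intro l _ hl
          simp only [← mul_assoc]
          rw [mul_assoc (U.E s 0 * U.coord b s t) (U.E 0 t), U.mul, if_neg (Ne.symm hl)]
          simp
        · simp
      _ = b * w := by rw [CyclicDefect.eB_comm B b, mul_assoc, mul_assoc, hew, hew]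
  refine ⟨⟨w, mem_fixAlg.mpr fun s _ => (hwb (dlt (ResField M) s)).symm, hew⟩, ?_⟩
  show w * U.eps = c
  rw [hw, Finset.sum_mul, Finset.sum_eq_single 0]
  · show U.eps * c * U.eps * U.eps = c
    rw [hc1, hc2, hc2]
  · intro l _ hl
    show U.E l 0 * c * U.E 0 l * U.E 0 0 = 0
    rw [mul_assoc, U.mul, if_neg hl, mul_zero]
  · simp

/-- The block algebra is no larger than the matrices over the corner. -/
theorem finrank_mulLeft_eB_le (hB : IsPBlock M B) :
    Module.finrank (ResField M) (LinearMap.mulLeft (ResField M) (eB M B)).range ≤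
      (U.n + 1) * (U.n + 1) * Module.finrank (ResField M) (cornerSub (ResField M) U.eps) := by
  classical
  let Θ : (Fin (U.n + 1) × Fin (U.n + 1) → cornerSub (ResField M) U.eps) →ₗ[ResField M] KG M G :=
    { toFun := fun f => ∑ i, ∑ j, U.E i 0 * (f (i, j) : KG M G) * U.E 0 j
      map_add' := fun f f' => by simp [mul_add, add_mul, Finset.sum_add_distrib]
      map_smul' := fun c f => by simp [Finset.smul_sum] }
  have hsub : (LinearMap.mulLeft (ResField M) (eB M B)).range ≤ LinearMap.range Θ := by
    rintro _ ⟨a, rfl⟩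
    refine ⟨fun q => ⟨U.coord a q.1 q.2, U.toCornerSys.eps_coord a q.1 q.2⟩, ?_⟩
    show ∑ i, ∑ j, U.E i 0 * U.coord a i j * U.E 0 j = eB M B * a
    rw [← U.toCornerSys.reconstruct, mul_assoc, ← CyclicDefect.eB_comm B a, ← mul_assoc,
      (CyclicDefect.isIdempotentElem_eB hB).eq]
  refine (Submodule.finrank_mono hsub).trans ((LinearMap.finrank_range_le Θ).trans ?_)
  rw [Module.finrank_pi_fintype, Finset.sum_const, Finset.card_univ, Fintype.card_prod,
    Fintype.card_fin, smul_eq_mul]

/-- The block idempotent is one or zero in each component. -/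
theorem pi_eB_eq_one_or_zero (hB : IsPBlock M B) (S : Simples M G) (i : Fin S.r) :
    S.π (eB M B) i = 1 ∨ S.π (eB M B) i = 0 := by
  haveI := S.m_ne
  set E := S.π (eB M B) i with hE
  have hcen : ∀ A, E * A = A * E := fun A => by
    obtain ⟨a, ha⟩ := S.surj (Pi.single i A)
    have := congrFun (congrArg S.π (CyclicDefect.eB_comm B a)) i
    simpa [map_mul, ha] using this
  have hidem : E * E = E := by
    have := congrFun (congrArg S.π (CyclicDefect.isIdempotentElem_eB hB).eq) i
    simpa [map_mul] using this
  have hsc : E = E 0 0 • 1 := PrimeDefect.scalar_of_central hcen 0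
  rcases eq_or_ne (E 0 0) 0 with h0 | h0
  · right; rw [hsc, h0, zero_smul]
  · left
    rw [hsc] at hidem
    have := congrFun (congrFun hidem 0) 0
    simp only [mul_smul_comm, Matrix.smul_apply, Matrix.one_apply_eq,
      smul_eq_mul, mul_one] at this
    rw [hsc, mul_right_cancel₀ h0 (this.trans (one_mul _).symm), one_smul]

/-- The block idempotent is one in the components of the block. -/
theorem pi_eB_eq_one (hB : IsPBlock M B) (S : Simples M G) {b : Fin S.r} (hb : S.InB B b) :
    S.π (eB M B) b = 1 := by
  haveI := S.m_ne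
  refine (pi_eB_eq_one_or_zero hB S b).resolve_right fun h0 => ?_
  obtain ⟨η, hη, hηb⟩ := hb
  have hid : IsIdempotentElem (S.e b * blkOG hB) := by
    rw [IsIdempotentElem, mul_assoc, ← mul_assoc (blkOG hB), blkOG_comm hB (S.e b), ← mul_assoc,
      ← mul_assoc, (S.idem b).eq, mul_assoc, (isIdempotentElem_blkOG hB).eq]
  have hred : red (S.e b * blkOG hB) = S.j b * eB M B := by rw [map_mul, S.red_e, red_blkOG]
  rcases (S.prim b).eq_of_le _ (hred ▸ hid.map red)
    (by rw [← mul_assoc, (S.prim b).idem.eq])
    (by rw [mul_assoc, CyclicDefect.eB_comm, ← mul_assoc, (S.prim b).idem.eq]) with h | h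
  · have h1 := chiSum_mul_blkOG hB η (S.e b)
    rw [eq_zero_of_red_eq_zero hid (hred.trans h), if_pos hη] at h1
    have h2 := dec_eq S η b
    rw [Simples.dec, ← h1] at h2
    rw [show chiSum (η : G → ℂ) (0 : OG M G) = 0 by simp [chiSum]] at h2
    exact hηb.ne' (Nat.cast_eq_zero.mp h2.symm)
  · refine S.j_ne b ?_
    rw [← h, map_mul, Pi.mul_apply, h0, mul_zero]

/-- A block of rank one has at most one component. -/
theorem inB_unique (hM : IsPModular p M) (hB : IsPBlock M B) (hl : blockRank p B = 1)
    (S : Simples M G) {b i : Fin S.r} (hb : S.InB B b) (hi : S.π (eB M B) i = 1) : i = b := by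
  classical
  have h := CyclicDefect.card_le_blockRank hM hB S.m_ne S.π S.surj
  rw [hl, Nat.card_eq_fintype_card, Fintype.card_le_one_iff_subsingleton] at h
  exact congrArg Subtype.val (h.elim ⟨i, hi⟩ ⟨b, pi_eB_eq_one hB S hb⟩)

/-- The component of a block of rank one is at least as large as the matrix units. -/
theorem le_component (hM : IsPModular p M) (hB : IsPBlock M B) (hl : blockRank p B = 1)
    (S : Simples M G) {b : Fin S.r} (hb : S.InB B b) : U.n + 1 ≤ S.m b := by
  classical
  haveI := S.m_ne
  have hother : ∀ i, i ≠ b → S.π (eB M B) i = 0 := fun i hi =>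
    (pi_eB_eq_one_or_zero hB S i).resolve_left fun h1 => hi (inB_unique hM hB hl S hb h1)
  -- compare the two representations on the block algebra
  set V := (LinearMap.mulLeft (ResField M) (eB M B)).range
  have hc := CyclicDefect.eB_comm (M := M) B
  set f : V →ₗ[ResField M] Matrix (Fin (U.n + 1)) (Fin (U.n + 1)) (ResField M) :=
    (U.rep hc).toLinearMap.comp V.subtype
  set g : V →ₗ[ResField M] Matrix (Fin (S.m b)) (Fin (S.m b)) (ResField M) :=
    ((LinearMap.proj b).comp S.π.toLinearMap).comp V.subtype
  have hfs : Function.Surjective f := fun X => by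
    obtain ⟨a, rfl⟩ := U.rep_surjective hc X
    refine ⟨⟨eB M B * a, a, rfl⟩, ?_⟩
    show U.rep hc (eB M B * a) = _
    rw [map_mul, U.rep_e, one_mul]
  have hker : LinearMap.ker g ≤ LinearMap.ker f := by
    rintro ⟨v, a, rfl⟩ hv
    change S.π (eB M B * a) b = 0 at hv
    show U.rep hc (eB M B * a) = 0
    have hz : S.π (eB M B * a) = 0 := funext fun i => by
      by_cases hi : i = b
      · subst hi; simpa using hv
      · rw [map_mul, Pi.mul_apply, hother i hi, zero_mul]; rfl
    ext i j
    rw [MatUnits.rep_apply, Matrix.zero_apply]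
    refine U.sc_of_isNilpotent (U.toCornerSys.eps_coord _ i j) (S.nil _ ?_)
    simp [CyclicDefect.CornerSys.coord, map_mul, hz]
  have h1 := f.finrank_range_add_finrank_ker
  have h2 := g.finrank_range_add_finrank_ker
  have h3 := Submodule.finrank_mono hker
  rw [LinearMap.range_eq_top.mpr hfs, finrank_top, Module.finrank_matrix, Fintype.card_fin,
    Module.finrank_self, mul_one] at h1
  have h4 : Module.finrank (ResField M) (LinearMap.range g) ≤ S.m b * S.m b := by
    refine (Submodule.finrank_le _).trans ?_
    rw [Module.finrank_matrix, Fintype.card_fin, Module.finrank_self, mul_one]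
  exact Nat.mul_self_le_mul_self_iff.mp (by omega)

/-- Each degree is at least the number of the matrix units. -/
theorem le_degree (hM : IsPModular p M) (hB : IsPBlock M B) (hl : blockRank p B = 1)
    {χ : IrrCharacter G} (hχ : χ ∈ B) : U.n + 1 ≤ charDegree (χ : G → ℂ) := by
  classical
  obtain ⟨S⟩ := nonempty_simples M G
  have hdeg := degree_eq_inB S hM hB hχ
  obtain ⟨b, hb, hpos⟩ : ∃ b, S.InB B b ∧ 0 < S.decN χ b := by
    by_contra hc
    push Not at hc
    rw [Finset.sum_eq_zero fun b hb' => by
      rw [Nat.le_zero.mp (hc b (Finset.mem_filter.mp hb').2), mul_zero]] at hdeg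
    exact (irr_degree_eq χ).2.ne' hdeg
  have h := le_component U hM hB hl S hb
  have h1 := Finset.single_le_sum (f := fun c => S.m c * S.decN χ c)
    (s := Finset.univ.filter fun c => S.InB B c) (fun _ _ => Nat.zero_le _)
    (Finset.mem_filter.mpr ⟨Finset.mem_univ b, hb⟩)
  rw [← hdeg] at h1
  exact h.trans ((Nat.le_mul_of_pos_right _ hpos).trans h1)

/-- **A block of rank one with at most four characters has equal degrees.** -/
theorem exists_degree (hM : IsPModular p M) (hB : IsPBlock M B) {P : Subgroup G}
    (hP : IsDefectGroup p M B P) (hl : blockRank p B = 1) (hk : Nat.card B ≤ 4) :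
    ∃ f, ∀ χ ∈ B, charDegree (χ : G → ℂ) = f := by
  classical
  have hne : eB M B ≠ 0 := fun h => CyclicDefect.trunc_eB_ne_zero hM hP (by rw [h, map_zero])
  obtain ⟨U⟩ := CyclicDefect.nonempty_matUnits hM hB hl hne
  let τ : KG M G →ₗ[ResField M] ResField M :=
    { toFun := fun a => a.coeff 1
      map_add' := fun a b => by simp
      map_smul' := fun c a => by simp }
  have hnd : ∀ x : KG M G, (∀ y, τ (x * y) = 0) → x = 0 := fun x hx =>
    MonoidAlgebra.ext (Finsupp.ext fun g => by
      have h : (x * dlt (ResField M) g⁻¹).coeff 1 = 0 := hx (dlt (ResField M) g⁻¹)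
      rw [coeff_mul_dlt, inv_inv, one_mul] at h
      rw [h]
      rfl)
  have hcomm := corner_comm U.isPrim τ (fun a b => BlockTwo.coeff_mul_one_comm a b) hnd
    ((finrank_cornerCenter_le U hB).trans hk)
  have hR : Module.finrank (ResField M) (cornerSub (ResField M) U.eps) ≤ Nat.card B :=
    (Submodule.finrank_mono fun a ha => (⟨ha, hcomm a ha⟩ :
      a ∈ cornerCenter (ResField M) U.eps)).trans (finrank_cornerCenter_le U hB)
  have hle : ∀ χ ∈ Finset.univ.filter (fun χ : IrrCharacter G => χ ∈ B),
      (U.n + 1) ^ 2 ≤ charDegree (χ : G → ℂ) ^ 2 := fun χ hχ =>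
    Nat.pow_le_pow_left (le_degree U hM hB hl (Finset.mem_filter.mp hχ).2) 2
  have hcard : (Finset.univ.filter fun χ : IrrCharacter G => χ ∈ B).card = Nat.card B := by
    rw [← Fintype.card_subtype, ← Nat.card_eq_fintype_card]
  have hge : ∑ χ : IrrCharacter G with χ ∈ B, charDegree (χ : G → ℂ) ^ 2 ≤
      ∑ χ : IrrCharacter G with χ ∈ B, (U.n + 1) ^ 2 := by
    rw [Finset.sum_const, smul_eq_mul, hcard, pow_two, mul_comm (Nat.card B)]
    exact (sum_sq_le_finrank (IsPBlock.isBlockUnion hB)).trans
      ((finrank_mulLeft_eB_le U hB).trans (Nat.mul_le_mul_left _ hR))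
  refine ⟨U.n + 1, fun χ hχ => (Nat.pow_left_injective two_ne_zero ?_)⟩
  exact (((Finset.sum_eq_sum_iff_of_le hle).mp (le_antisymm (Finset.sum_le_sum hle) hge)) χ
    (Finset.mem_filter.mpr ⟨Finset.mem_univ χ, hχ⟩)).symm

end CfsgLib.Blocks.RankOneSmall
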